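import Cfsg.Agent.SmallCodes.Ternary
import Cfsg.Agent.PermCert.Basic
import Cfsg.Prelude.Def_Sporadic_a

/-!
# The monomial group of the ternary code
-/

set_option autoImplicit false
set_option linter.style.haveILetI false

namespace Cfsg.Lib.Ternary.Monomial

open Cfsg Cfsg.Lib.PermCert Finset
open scoped Pointwise

/-- Inverse monomial moves, level by level: position, permutation tables, sign mask. -/
def moves : List (List (ℕ × PP × ℕ)) := [
  [(0, (1053605299562381328232603147180457479890407323326283776, 1053605299562381328232603147180457479890407323326283776), 0), (1, (574697519993915588367840879278058144226179136681410561, 574697519993915588367840879278058144226179136681410561), 0), (2, (957822866801226753519808034791572291320166413016104961, 862044818478082956751699536272364004019270205187293186), 0), (3, (1053599453578133090101828034977450824933415259323105281, 1053603838038442571566420795389812175642593337255395331), 630), (4, (862040433906270089597589768524926762049447866902118401, 766258001189717345553838150412344359217381796344758276), 630), (5, (957825789692998369902917465182976276249661692914565121,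 957825789715299115085871356210068206549801163257020421), 630), (6, (1053603837971541697105488114297177540468642349546864641, 1053602376581407071327353472214932989903912822384885766), 634), (7, (478913625708822597219306971316874988508095222611312641, 574693135422101019775935101781045571762361784791465991), 636), (8, (670474106860020482062828568435750957715841003938775041, 478918010169132078741014521804144246863492856737169416), 624), (9, (766262385449320800806773500462811191665449192944435201, 670481414323609389281201777894549079423749373026107401), 634), (10, (574685828025416730119337218448545270699216749952368641, 383132654427004608242053141391915287134814340598726666), 624), (11, (10230756771555224427924110357464330365701160304641, 862034587855117574177021261268950079006609069341409291), 636)],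
  [(1, (1053605299562381328232603147180457479890407323326283776, 1053605299562381328232603147180457479890407323326283776), 0), (2, (766258001078213959848744490186151620097316246230532096, 766258001078213959848744490186151620097316246230532096), 0), (3, (574701904521127305428025271430539106959163631478112256, 957818482207112800864032010898971716561405197993312256), 1866), (4, (670481414345908433083475241515300600846775401436020736, 574700443041790719734022126147986717230715535299444736), 1866), (5, (766256539688080014640535590690093864085906517649391616, 862040433883969344383482571719227747468613023995068416), 1866), (6, (574696058447676086508319092017390396785492077958004736, 478915087121257287662392571958167534859791797605236736), 1862), (7, (478920933261611422700884978616341300991830211663364096, 957822866734324177621079977773453384819816548526391296), 1859), (8, (862036049423655439268888947315236149906886399071748096, 670472645380686958899742959424766054965688264984887296), 1871), (9, (957821405076582310903565768461287004305482914572926976, 383139961845989983379548251885720231264307196883173376),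 1862), (10, (1053592146003042838872562057097940556451690353927520256, 1053597992009592502766601475860666920921001597229203456), 1871), (11, (95794124952662246096842668115463086378329340792406016, 766256539665777227737418848207961228332189241962070016), 1859)],
  [(2, (1053605299562381328232603147180457479890407323326283776, 1053605299562381328232603147180457479890407323326283776), 0), (3, (862040433995472730088576231946629449302062834269618176, 862040433995472730088576231946629449302062834269618176), 1331), (4, (957819943686449386583996244333385617771430011899805696, 670482875825245018798247257319342262478457703193706496), 1331), (5, (1053603838038442911864364289987603305833905028564320256, 1053600915079770421009938377063284396050494480156000256), 1331), (6, (862043356864943260990787722126893106266556922373144576, 766262385694627636840373404605966210686125963728715776), 1337), (7, (478916548689796173554630269868494810421623249656938496, 478910702660947465910240514523063230522930423513808896), 1338), (8, (574693135578203854189081017200133578196958287988064256, 862037510858392576234071046113984329427929533220192256),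 1328), (9, (670482875691441908731338588454005939709014334106566656, 957821405210385761273610228784158136926843868566061056), 1337), (10, (766250693659228244413305409721953793412951134217240576, 574698981428651023936764630133584560506207153569202176), 1328), (11, (191570711818769521783975615186215316205627685365415936, 383131192925368298181043324434566693263134303872679936), 1338)],
  [(3, (1053605299562381328232603147180457479890407323326283776, 1053605299562381328232603147180457479890407323326283776), 0), (4, (766256539598877374139164692012482290276289454580760576, 766256539598877374139164692012482290276289454580760576), 0), (5, (862044818478082616479717129820389848445182467165454336, 957822866801227093791790441239919669436254701328859136), 0), (6, (1053602376469904025909818633646134951625425562223312896, 1053597992031894609068638536149078823163180518169706496), 6), (7, (478919471670770430449495430347529955714109905137893376, 574700442952586718077222059426265040314141052753739776), 5), (8, (670474106837720757732167816315582388923311177796222976, 478915087232760333095503588051525353073289566449893376),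 3), (9, (574698981406349257922286866870333592660401090031845376, 670472645358385873413653593850371427999439349077835776), 6), (10, (957814097724500192219147883918504631276745280601522176, 383139961868290388290519498776350481646623505661362176), 3), (11, (287353144669127077296085516997360316962275119375384576, 862040433839365812307796373471956733965289991794917376), 5)],
  [(4, (1053605299562381328232603147180457479890407323326283776, 1053605299562381328232603147180457479890407323326283776), 0), (5, (670478491275732896827091380592952469285217220417355776, 670478491275732896827091380592952469285217220417355776), 0), (6, (766263847062461177132418601890489360189963815679492096, 957819943641848576736091711671984859361897215070109696), 6), (7, (478913625753424768201871009222898378958078794467966976, 383137038909616196024259377301735862810535454090264576), 5), (8, (862036049401355714891497919611484592311706004477771776, 574691674076567544138455635505947481139355866670104576), 3), (9, (957819943641848576736091711671984859361897215070109696, 766263847062461177132418601890489360189963815679492096), 6), (10, (574691674076567544138455635505947481139355866670104576,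 862036049401355714891497919611484592311706004477771776), 3), (11, (383137038909616196024259377301735862810535454090264576, 478913625753424768201871009222898378958078794467966976), 5)]]

/-- Cells as numbers. -/
def cellEquiv : ArrayPt ≃ Fin 12 where
  toFun p := ⟨pos p, pos_lt p⟩
  invFun k := cell k
  left_inv p := (cell_facts p).1
  right_inv k := Fin.ext (cell_pos_nat k k.2)

/-- The permutation of a table. -/
def permT (g : PP) : Equiv.Perm ArrayPt := cellEquiv.symm.permCongr (perm 12 g)

theorem pos_permT {g : PP} (h : valid 12 g = true) (p : ArrayPt) : pos (permT g p) = ap g.1 (pos p) := by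
  show pos (cellEquiv.symm (perm 12 g (cellEquiv p))) = _
  rw [show cellEquiv.symm (perm 12 g (cellEquiv p)) = cell (perm 12 g (cellEquiv p) : ℕ) from rfl,
    cell_pos_nat _ (Fin.is_lt _), perm_apply h]
  rfl

/-- The signs of a mask. -/
def signsOf (s : ℕ) (p : ArrayPt) : (ZMod 3)ˣ := if s.testBit (pos p) then -1 else 1

/-- Keeping the code. -/
def Keeps (σ : Equiv.Perm ArrayPt) (c : ArrayPt → (ZMod 3)ˣ) : Prop :=
  ∀ x ∈ ternaryGolayCode, monomialMap σ c x ∈ ternaryGolayCode

theorem keeps_of_rows {σ : Equiv.Perm ArrayPt} {c : ArrayPt → (ZMod 3)ˣ}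
    (h : ∀ k : Fin 6, good (monomialMap σ c (row k))) : Keeps σ c := fun x hx => by
  rw [eq_enc hx, show monomialMap σ c (enc (Ternary.dec x)) = ∑ k : Fin 6, Ternary.dec x k • monomialMap σ c (row k) by
    funext p
    simp only [monomialMap, enc, Finset.sum_apply, Pi.smul_apply, smul_eq_mul, Finset.mul_sum]
    exact Finset.sum_congr rfl fun k _ => mul_left_comm _ _ _]
  exact Submodule.sum_mem _ fun k _ => Submodule.smul_mem _ _ (mem_iff_good.mpr (h k))

/-- The moves are correct. -/
def moveOK (i : ℕ) (m : ℕ × PP × ℕ) : Bool :=
  valid 12 m.2.1 && (ap m.2.1.1 m.1 == i) && ((List.range i).all fun j => ap m.2.1.1 j == j) &&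
    decide (∀ k : Fin 6, good (monomialMap (permT m.2.1) (signsOf m.2.2) (row k)))

theorem moves_ok : ((List.range 5).all fun i => (moves.getD i []).all (moveOK i) &&
    ((moves.getD i []).map (·.1) == (List.range (12 - i)).map (· + i))) = true := by decide +kernel

theorem keeps_one : Keeps 1 fun _ => 1 := fun x hx => by
  rwa [show monomialMap (1 : Equiv.Perm ArrayPt) (fun _ => (1 : (ZMod 3)ˣ)) x = x by
    funext p; simp [monomialMap, Equiv.Perm.one_def]]

theorem monomialMap_comp (σ τ : Equiv.Perm ArrayPt) (c d : ArrayPt → (ZMod 3)ˣ) (x : ArrayPt → ZMod 3) :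
    monomialMap σ c (monomialMap τ d x) = monomialMap (σ * τ) (fun i => c i * d (σ.symm i)) x := by
  funext i
  simp [monomialMap, Equiv.Perm.mul_def, mul_assoc]

/-- The permutation parts. -/
def parts : Set (Equiv.Perm ArrayPt) := {σ | ∃ c, Keeps σ c}

theorem parts_mul {σ τ : Equiv.Perm ArrayPt} : σ ∈ parts → τ ∈ parts → σ * τ ∈ parts := by
  rintro ⟨c, hc⟩ ⟨d, hd⟩
  exact ⟨_, fun x hx => monomialMap_comp σ τ c d x ▸ hc _ (hd x hx)⟩

theorem keeps_surj {σ : Equiv.Perm ArrayPt} {c : ArrayPt → (ZMod 3)ˣ} (h : Keeps σ c) {y : ArrayPt → ZMod 3}
    (hy : y ∈ ternaryGolayCode) : ∃ x ∈ ternaryGolayCode, monomialMap σ c x = y := by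
  have hinj : Function.Injective fun x : ternaryGolayCode => (⟨monomialMap σ c x.1, h x.1 x.2⟩ : ternaryGolayCode) := by
    intro a b e
    refine Subtype.ext (funext fun p => ?_)
    have := congrFun (congrArg Subtype.val e) (σ p)
    simpa [monomialMap] using this
  obtain ⟨⟨x, hx⟩, e⟩ := Finite.injective_iff_surjective.mp hinj ⟨y, hy⟩
  exact ⟨x, hx, congrArg Subtype.val e⟩

theorem signs_two {σ : Equiv.Perm ArrayPt} {c d : ArrayPt → (ZMod 3)ˣ} (hc : Keeps σ c) (hd : Keeps σ d) :
    d = c ∨ d = fun p => -c p := by
  have h : ∀ y ∈ ternaryGolayCode, monomialMap 1 (fun p => d p * (c p)⁻¹) y ∈ ternaryGolayCode := fun y hy => by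
    obtain ⟨x, hx, rfl⟩ := keeps_surj hc hy
    rw [monomialMap_comp]
    convert hd x hx using 2
    · simp
    · funext p
      simp [Equiv.Perm.one_def]
  rcases s1593 _ h with e | e
  · exact Or.inl (funext fun p => mul_inv_eq_one.mp (e p))
  · exact Or.inr (funext fun p => by
      show d p = -c p
      rw [← neg_one_mul (c p), ← e p, inv_mul_cancel_right])

theorem keeps_neg {σ : Equiv.Perm ArrayPt} {c : ArrayPt → (ZMod 3)ˣ} (hc : Keeps σ c) : Keeps σ fun p => -c p :=
  fun x hx => by
    rw [show monomialMap σ (fun p => -c p) x = -monomialMap σ c x by funext p; simp [monomialMap]]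
    exact neg_mem (hc x hx)

/-- The hexads. -/
def hexads : Set (Finset ArrayPt) := {h | ∃ x ∈ ternaryGolayCode, ternarySupport x = h ∧ h.card = 6}

theorem supp_map (σ : Equiv.Perm ArrayPt) (c : ArrayPt → (ZMod 3)ˣ) (x : ArrayPt → ZMod 3) :
    ternarySupport (monomialMap σ c x) = σ • ternarySupport x := by
  ext p
  rw [← Finset.inv_smul_mem_iff, Equiv.Perm.smul_def]
  simp [ternarySupport, monomialMap, Units.ne_zero, Equiv.Perm.inv_def]

theorem parts_smul {σ : Equiv.Perm ArrayPt} (h : σ ∈ parts) {s : Finset ArrayPt} (hs : s ∈ hexads) :
    σ • s ∈ hexads := by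
  obtain ⟨c, hc⟩ := h
  obtain ⟨x, hx, rfl, h6⟩ := hs
  exact ⟨_, hc x hx, supp_map σ c x, by rw [Finset.card_smul_finset, h6]⟩

/-- The base cell with a given number. -/
def bcell (j : Fin 5) : ArrayPt := cell j

theorem bcell_injective : Function.Injective bcell := fun i j h => by
  have := congrArg pos h
  simp only [bcell] at this
  rw [cell_pos_nat _ (by omega), cell_pos_nat _ (by omega)] at this
  exact Fin.ext this

theorem transitive_aux : ∀ i, i ≤ 5 → ∀ a : Fin 5 → ArrayPt, Function.Injective a →
    ∃ σ ∈ parts, ∀ j : Fin 5, (j : ℕ) < i → σ (a j) = bcell j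
  | 0, _, a, _ => ⟨1, ⟨_, keeps_one⟩, fun j hj => absurd hj (Nat.not_lt_zero _)⟩
  | i + 1, hi, a, ha => by
    obtain ⟨σ, hσ, hσa⟩ := transitive_aux i (by omega) a ha
    set k := pos (σ (a ⟨i, by omega⟩)) with hk
    have hki : i ≤ k := by
      by_contra hlt
      have h1 := hσa ⟨k, by omega⟩ (by simp; omega)
      have h2 : σ (a ⟨i, by omega⟩) = bcell ⟨k, by omega⟩ := (cell_facts _).1.symm
      have := congrArg Fin.val (ha (σ.injective (h1.trans h2.symm)))
      simp at this
      omega
    have hm := List.all_eq_true.mp moves_ok i (List.mem_range.mpr (by omega))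
    simp only [Bool.and_eq_true, beq_iff_eq] at hm
    have hkm : k ∈ (moves.getD i []).map (·.1) := by
      rw [hm.2, List.mem_map]
      exact ⟨k - i, List.mem_range.mpr (by have := pos_lt (σ (a ⟨i, by omega⟩)); omega), by omega⟩
    obtain ⟨m, hmm, hmk⟩ := List.mem_map.mp hkm
    have hok := List.all_eq_true.mp hm.1 m hmm
    simp only [moveOK, Bool.and_eq_true, beq_iff_eq, List.all_eq_true, List.mem_range, decide_eq_true_eq] at hok
    obtain ⟨⟨⟨hv, hk'⟩, hfix⟩, hkeep⟩ := hok
    have hinj : Function.Injective pos := fun p q h => by rw [← (cell_facts p).1, h, (cell_facts q).1]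
    refine ⟨permT m.2.1 * σ, parts_mul ⟨_, keeps_of_rows hkeep⟩ hσ, fun j hj => hinj ?_⟩
    rw [Equiv.Perm.mul_apply, pos_permT hv, bcell, cell_pos_nat _ (by omega)]
    rcases Nat.lt_succ_iff_lt_or_eq.mp hj with h | h
    · rw [hσa j h, bcell, cell_pos_nat _ (by omega)]
      exact hfix j h
    · rw [show j = ⟨i, by omega⟩ from Fin.ext h, ← hk, ← hmk]
      exact hk'

theorem transitive (a : Fin 5 → ArrayPt) (ha : Function.Injective a) : ∃ σ ∈ parts, ∀ j, σ (a j) = bcell j := by
  obtain ⟨σ, hσ, h⟩ := transitive_aux 5 le_rfl a ha
  exact ⟨σ, hσ, fun j => h j j.2⟩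

/-- The image of a mask under a list of positions. -/
def imgL (l : List ℕ) (m : ℕ) : ℕ :=
  (List.range 12).foldr (fun k a => if m.testBit k then 2 ^ (l.getD k 0) ||| a else a) 0

/-- The last six positions. -/
def lastSix : List ℕ := [6, 7, 8, 9, 10, 11]

theorem rigid_check : (lastSix.permutations'.all fun r => (r == lastSix) ||
    !(hexMasks.all fun m => hexMasks.contains (imgL ([0, 1, 2, 3, 4, 5] ++ r) m))) = true := by decide +kernel

theorem testBit_imgL (l : List ℕ) (m j : ℕ) :
    (imgL l m).testBit j = true ↔ ∃ k < 12, m.testBit k = true ∧ l.getD k 0 = j := by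
  have : ∀ r : List ℕ, (r.foldr (fun k a => if m.testBit k then 2 ^ (l.getD k 0) ||| a else a) 0).testBit j = true ↔
      ∃ k ∈ r, m.testBit k = true ∧ l.getD k 0 = j := by
    intro r
    induction r with
    | nil => simp
    | cons x r ih =>
      rw [List.foldr_cons]
      by_cases hx : m.testBit x = true
      · rw [if_pos hx, Nat.testBit_or, Bool.or_eq_true, ih, Nat.testBit_two_pow, decide_eq_true_iff]
        simp only [List.mem_cons, exists_eq_or_imp, hx, true_and]
      · rw [if_neg hx, ih]
        simp [List.mem_cons, exists_eq_or_imp, hx]
  simp only [imgL, this, List.mem_range]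

theorem hexads_eq : hexads = maskSet '' {m | m ∈ hexMasks} := hexad_set_eq

/-- Automorphisms of the hexads. -/
def Auto (σ : Equiv.Perm ArrayPt) : Prop := ∀ s ∈ hexads, σ • s ∈ hexads

theorem rigid {σ : Equiv.Perm ArrayPt} (hσ : Auto σ) (h5 : ∀ j, σ (bcell j) = bcell j) : σ = 1 := by
  set l := (List.range 12).map fun k => pos (σ (cell k)) with hl
  have hinj : Function.Injective pos := fun p q h => by rw [← (cell_facts p).1, h, (cell_facts q).1]
  have hget : ∀ k < 12, l.getD k 0 = pos (σ (cell k)) := fun k hk => by
    rw [hl, List.getD_eq_getElem _ _ (by simpa using hk)]; simp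
  have hmask : ∀ m ∈ hexMasks, imgL l m ∈ hexMasks ∧ maskSet (imgL l m) = σ • maskSet m := fun m hm => by
    have e : maskSet (imgL l m) = σ • maskSet m := by
      ext p
      rw [← Finset.inv_smul_mem_iff, Equiv.Perm.smul_def]
      simp only [maskSet, Finset.mem_filter, Finset.mem_univ, true_and, testBit_imgL]
      constructor
      · rintro ⟨k, hk, hb, hg⟩
        rw [hget k hk] at hg
        rw [← hinj hg, Equiv.Perm.inv_def, Equiv.symm_apply_apply, cell_pos_nat k hk]
        exact hb
      · intro hb
        refine ⟨pos (σ⁻¹ p), pos_lt _, hb, ?_⟩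
        rw [hget _ (pos_lt _), (cell_facts _).1]
        simp
    have hmem : σ • maskSet m ∈ hexads := hσ _ (hexads_eq ▸ ⟨m, hm, rfl⟩)
    rw [hexads_eq] at hmem
    obtain ⟨m', hm', e'⟩ := hmem
    have hlt : imgL l m < 4096 := by
      refine Nat.lt_pow_two_of_testBit (n := 12) _ fun j hj => Bool.eq_false_iff.mpr fun hb => ?_
      obtain ⟨k, hk, -, hg⟩ := (testBit_imgL l m j).mp hb
      rw [hget k hk] at hg
      have := pos_lt (σ (cell k))
      omega
    exact ⟨maskSet_inj hlt (hex_masks.2.2 m' hm').1 (e.trans e'.symm) ▸ hm', e⟩
  have hfive : ∀ k < 5, σ (cell k) = cell k := fun k hk => h5 ⟨k, hk⟩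
  have h63 : (63 : ℕ) ∈ hexMasks := by decide +kernel
  have hsix : maskSet 63 = insert (cell 5) (Finset.univ.image bcell) := by decide +kernel
  have hfifth : σ (cell 5) = cell 5 := by
    obtain ⟨hm, e⟩ := hmask 63 h63
    have him : σ • (Finset.univ.image bcell) = Finset.univ.image bcell := by
      ext p
      simp only [← Finset.inv_smul_mem_iff, Finset.mem_image, Finset.mem_univ, true_and, Equiv.Perm.smul_def]
      refine ⟨fun ⟨j, e⟩ => ⟨j, ?_⟩, fun ⟨j, e⟩ => ⟨j, ?_⟩⟩
      · rw [← h5 j, e]; simp
      · rw [← e, Equiv.Perm.eq_inv_iff_eq, h5]
    have hcard : (Finset.univ.image bcell).card = 5 := by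
      rw [Finset.card_image_of_injective _ bcell_injective]; rfl
    obtain ⟨s, -, huniq⟩ := s1592.1.2 _ hcard
    have e1 := huniq (maskSet 63) ⟨(hexad_set_eq ▸ ⟨63, h63, rfl⟩ : maskSet 63 ∈ {h : Finset ArrayPt | ∃ x ∈ ternaryGolayCode, ternarySupport x = h ∧ h.card = 6}), hsix ▸ Finset.subset_insert _ _⟩
    have e2 := huniq (σ • maskSet 63) ⟨hσ _ (hexads_eq ▸ ⟨63, h63, rfl⟩), by
      rw [hsix, Finset.smul_finset_insert, him]; exact Finset.subset_insert _ _⟩
    have hn : cell 5 ∉ Finset.univ.image bcell := by decide +kernel
    have e3 := e2.trans e1.symm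
    rw [hsix, Finset.smul_finset_insert, him, Equiv.Perm.smul_def] at e3
    have : σ (cell 5) ∈ insert (cell 5) (Finset.univ.image bcell) := e3 ▸ Finset.mem_insert_self _ _
    rcases Finset.mem_insert.mp this with h | h
    · exact h
    · obtain ⟨j, -, hj⟩ := Finset.mem_image.mp h
      exact absurd (Finset.mem_image.mpr ⟨j, Finset.mem_univ j, σ.injective ((h5 j).trans hj)⟩) hn
  have hlow : ∀ k < 6, σ (cell k) = cell k := fun k hk => by
    rcases Nat.lt_succ_iff_lt_or_eq.mp hk with h | rfl
    exacts [hfive k h, hfifth]
  set r := lastSix.map fun k => pos (σ (cell k)) with hr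
  have hlr : l = [0, 1, 2, 3, 4, 5] ++ r := by
    have e0 : ∀ k < 6, pos (σ (cell k)) = k := fun k hk => by rw [hlow k hk, cell_pos_nat k (by omega)]
    rw [hl, hr, show List.range 12 = [0, 1, 2, 3, 4, 5] ++ lastSix by decide, List.map_append]
    simp [e0]
  have hrp : r.Perm lastSix := by
    have hnd : r.Nodup := by
      refine List.Nodup.map_on (fun a ha b hb h => ?_) (by decide)
      have := σ.injective (hinj h)
      have ha' : a < 12 := by simp [lastSix] at ha; omega
      have hb' : b < 12 := by simp [lastSix] at hb; omega
      rw [← cell_pos_nat a ha', this, cell_pos_nat b hb']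
    refine (List.perm_ext_iff_of_nodup hnd (by decide)).mpr fun x => ?_
    have hsub : r.toFinset ⊆ lastSix.toFinset := fun x hx => by
      obtain ⟨k, hk, rfl⟩ := List.mem_map.mp (List.mem_toFinset.mp hx)
      have hk12 : k < 12 ∧ 6 ≤ k := by simp [lastSix] at hk; omega
      have : ¬ pos (σ (cell k)) < 6 := fun hlt => by
        have h := hlow _ hlt
        rw [(cell_facts _).1] at h
        have e := congrArg pos (σ.injective h)
        rw [cell_pos_nat k hk12.1] at e
        omega
      have := pos_lt (σ (cell k))
      rw [List.mem_toFinset]
      simp [lastSix]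
      omega
    have := Finset.eq_of_subset_of_card_le hsub (by
      rw [List.toFinset_card_of_nodup hnd, hr, List.length_map, List.toFinset_card_of_nodup (by decide)])
    rw [← List.mem_toFinset, this, List.mem_toFinset]
  have hcheck := List.all_eq_true.mp rigid_check r (List.mem_permutations'.mpr hrp)
  have hrid : r = lastSix := by
    rcases Bool.or_eq_true _ _ ▸ hcheck with h | h
    · exact beq_iff_eq.mp h
    · exfalso
      have hall : (hexMasks.all fun m => hexMasks.contains (imgL ([0, 1, 2, 3, 4, 5] ++ r) m)) = true :=
        List.all_eq_true.mpr fun m hm => List.contains_iff_mem.mpr (hlr ▸ (hmask m hm).1)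
      rw [hall] at h
      exact Bool.false_ne_true h
  refine Equiv.ext fun p => hinj ?_
  have := hget (pos p) (pos_lt p)
  rw [hlr, hrid, (cell_facts p).1] at this
  have hd : ∀ k < 12, ([0, 1, 2, 3, 4, 5] ++ lastSix).getD k 0 = k := by decide
  rw [hd _ (pos_lt p)] at this
  exact this.symm

theorem auto_of_parts {σ : Equiv.Perm ArrayPt} (h : σ ∈ parts) : Auto σ := fun _ hs => parts_smul h hs

theorem auto_mul {σ τ : Equiv.Perm ArrayPt} (h : Auto σ) (h' : Auto τ) : Auto (σ * τ) := fun s hs => by
  rw [mul_smul]; exact h _ (h' s hs)

theorem auto_inv {σ : Equiv.Perm ArrayPt} (h : Auto σ) : Auto σ⁻¹ := fun s hs => by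
  have hinj : Function.Injective fun t : hexads => (⟨σ • t.1, h t.1 t.2⟩ : hexads) := fun a b e =>
    Subtype.ext (MulAction.injective σ (congrArg Subtype.val e))
  obtain ⟨⟨t, ht⟩, e⟩ := Finite.injective_iff_surjective.mp hinj ⟨s, hs⟩
  rw [← show σ • t = s from congrArg Subtype.val e, inv_smul_smul]
  exact ht

theorem mem_parts_of_auto {τ : Equiv.Perm ArrayPt} (h : Auto τ) : τ ∈ parts := by
  have hinj : Function.Injective fun j => τ⁻¹ (bcell j) := (τ⁻¹).injective.comp bcell_injective
  obtain ⟨σ, hσ, hσb⟩ := transitive (fun j => τ⁻¹ (bcell j)) hinj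
  have e := rigid (auto_mul (auto_of_parts hσ) (auto_inv h)) hσb
  rw [show τ = σ from (mul_inv_eq_one.mp e).symm]
  exact hσ

theorem parts_eq : parts = {σ | Auto σ} := Set.ext fun _ => ⟨auto_of_parts, mem_parts_of_auto⟩

/-- An automorphism is determined by the images of the base cells. -/
noncomputable def toTuple (σ : parts) : Fin 5 ↪ ArrayPt :=
  ⟨fun j => σ.1⁻¹ (bcell j), ((σ.1)⁻¹).injective.comp bcell_injective⟩

theorem toTuple_bijective : Function.Bijective toTuple := by
  refine ⟨fun a b h => ?_, fun a => ?_⟩
  · have e : ∀ j, a.1⁻¹ (bcell j) = b.1⁻¹ (bcell j) := fun j => congrArg (fun f : Fin 5 ↪ ArrayPt => f j) h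
    have := rigid (auto_mul (auto_of_parts a.2) (auto_inv (auto_of_parts b.2))) fun j => by
      rw [Equiv.Perm.mul_apply, ← e j]; simp
    exact Subtype.ext (mul_inv_eq_one.mp this)
  · obtain ⟨σ, hσ, h⟩ := transitive a a.injective
    refine ⟨⟨σ, hσ⟩, Function.Embedding.ext fun j => ?_⟩
    show σ⁻¹ (bcell j) = a j
    rw [Equiv.Perm.inv_eq_iff_eq, h j]

theorem card_parts : Nat.card parts = 95040 := by
  rw [Nat.card_eq_of_bijective _ toTuple_bijective, Nat.card_eq_fintype_card, Fintype.card_embedding_eq,
    Fintype.card_fin, Fintype.card_prod, Fintype.card_fin, ZMod.card]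
  rfl

/-- The monomial automorphisms, by permutation part and sign. -/
noncomputable def build (e : parts × Bool) :
    {f : Equiv.Perm ArrayPt × (ArrayPt → (ZMod 3)ˣ) // Keeps f.1 f.2} :=
  ⟨(e.1.1, if e.2 then fun p => -(e.1.2.choose p) else e.1.2.choose), by
    show Keeps e.1.1 _
    split
    · exact keeps_neg e.1.2.choose_spec
    · exact e.1.2.choose_spec⟩

theorem build_bijective : Function.Bijective build := by
  have hne : ∀ u : (ZMod 3)ˣ, -u ≠ u := by decide
  refine ⟨fun a b h => ?_, fun f => ?_⟩
  · have h1 : a.1 = b.1 := Subtype.ext (congrArg (fun f => f.1.1) h)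
    obtain ⟨a1, a2⟩ := a
    obtain ⟨b1, b2⟩ := b
    obtain rfl := h1
    have h2 := congrFun (congrArg (fun f => f.1.2) h) (cell 0)
    cases a2 <;> cases b2 <;> simp only [build, Bool.false_eq_true, if_false, if_true] at h2
    · rfl
    · exact absurd h2.symm (hne _)
    · exact absurd h2 (hne _)
    · rfl
  · obtain ⟨⟨σ, c⟩, hc⟩ := f
    have hσ : σ ∈ parts := ⟨c, hc⟩
    rcases signs_two hσ.choose_spec hc with e | e
    · exact ⟨(⟨σ, hσ⟩, false), Subtype.ext (Prod.ext rfl e.symm)⟩
    · exact ⟨(⟨σ, hσ⟩, true), Subtype.ext (Prod.ext rfl e.symm)⟩

theorem card_monomial :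
    Nat.card {f : Equiv.Perm ArrayPt × (ArrayPt → (ZMod 3)ˣ) // Keeps f.1 f.2} = 190080 := by
  rw [← Nat.card_eq_of_bijective _ build_bijective, Nat.card_prod, card_parts]
  simp

theorem auto_iff {σ : Equiv.Perm ArrayPt} : Auto σ ↔ σ ∈ setSystemAut hexads := by
  rw [MulAction.mem_stabilizer_iff]
  refine ⟨fun h => ?_, fun h s hs => h ▸ Set.smul_mem_smul_set hs⟩
  ext s
  rw [Set.mem_smul_set_iff_inv_smul_mem]
  exact ⟨fun hs => by simpa using h _ hs, fun hs => auto_inv h _ hs⟩

theorem parts_eq_aut : parts = (setSystemAut hexads : Set (Equiv.Perm ArrayPt)) :=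
  parts_eq.trans (Set.ext fun _ => auto_iff)

end Cfsg.Lib.Ternary.Monomial
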